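import Groth.Agent.AVDegPoly.KerCard
import Groth.Agent.H23.EquidimFibres

/-!
Separable isogenies give Galois extensions of function fields.
-/

noncomputable section

set_option autoImplicit false
set_option linter.style.haveILetI false
set_option linter.unusedSectionVars false
set_option backward.isDefEq.respectTransparency false
set_option backward.isDefEq.respectTransparency.types false
set_option maxHeartbeats 800000

universe u

open CategoryTheory CategoryTheory.Limits AlgebraicGeometry MonoidalCategory CartesianMonoidalCategory MonObj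
  TopologicalSpace

namespace Groth.Agent.AVGalois

open Groth.Agent.AVDegPoly

variable {k : Type u} [Field k] [IsAlgClosed k] {A B : Over (Spec (CommRingCat.of k))}
  [GrpObj A] [IsProper A.hom] [GeometricallyIntegral A.hom] [IsCommMonObj A]
  [GrpObj B] [IsProper B.hom] [GeometricallyIntegral B.hom]

/-- the translations by kernel points act faithfully on the function field -/
theorem exists_deck (φ : A ⟶ B) [IsMonHom φ] [IsFinite φ.left] [Surjective φ.left]
    (G : Subgroup (AVTorsLib.base k ⟶ A)) (hker : ∀ a ∈ G, a ≫ φ = 1) [IsIntegral A.left] [IsIntegral B.left] :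
    letI := AVDegLib.ffExt φ
    ∃ σ : G →* (A.left.functionField ≃ₐ[B.left.functionField] A.left.functionField), Function.Injective σ := by
  letI := AVDegLib.ffExt φ
  haveI := AVDegLib.finiteDimensional_ff φ
  haveI := fun a : AVTorsLib.base k ⟶ A => trl_isIso a
  haveI : ∀ a : AVTorsLib.base k ⟶ A, IsFinite (trl a).left := fun a => inferInstance
  haveI : ∀ a : AVTorsLib.base k ⟶ A, Surjective (trl a).left := fun a => inferInstance
  have hφ : ∀ a ∈ G, trl a ≫ φ = φ := fun a ha => by
    rw [trl, MonObj.mul_comp, Category.id_comp, Category.assoc, hker a ha, MonObj.comp_one, _root_.mul_one]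
  let K := B.left.functionField
  let E := A.left.functionField
  let m : (AVTorsLib.base k ⟶ A) → (E →+* E) := fun a => AVDegLib.ffMap (trl a)
  have hm : ∀ a b, m (a * b) = (m a).comp (m b) := fun a b => ffMap_comp _ _ _ (trl_mul a b)
  have hm1 : m 1 = RingHom.id E := by
    have h : CommRingCat.ofHom (m 1) = CommRingCat.ofHom (RingHom.id E) :=
      Spec.map_injective ((cancel_mono (A.left.fromSpecStalk (genericPoint A.left))).1 (by
        rw [spec_ffMap, trl_one, Over.id_left, Category.comp_id]
        exact ((congrArg (· ≫ _) (Spec.map_id _)).trans (Category.id_comp _)).symm))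
    exact congrArg CommRingCat.Hom.hom h
  have hfix : ∀ a ∈ G, ∀ x : K, m a (algebraMap K E x) = algebraMap K E x := fun a ha x =>
    (RingHom.congr_fun (ffMap_comp (trl a) φ φ (hφ a ha)) x).symm
  let σ : G →* (E ≃ₐ[K] E) :=
    { toFun := fun a => AlgEquiv.ofBijective ({ m a with commutes' := hfix a a.2 } : E →ₐ[K] E)
        ⟨(m a).injective, fun y => ⟨m (a : AVTorsLib.base k ⟶ A)⁻¹ y, by
          show m a (m _ y) = y
          rw [← RingHom.comp_apply, ← hm, _root_.mul_inv_cancel, hm1]
          rfl⟩⟩
      map_one' := AlgEquiv.ext fun x => RingHom.congr_fun hm1 x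
      map_mul' := fun a b => AlgEquiv.ext fun x => RingHom.congr_fun (hm a b) x }
  have hσ : Function.Injective σ := by
    refine (injective_iff_map_eq_one σ).2 fun a ha => Subtype.ext ?_
    have hma : m a = RingHom.id E := RingHom.ext fun x => AlgEquiv.congr_fun ha x
    have hmor : trl (a : AVTorsLib.base k ⟶ A) = 𝟙 A := by
      haveI : IsDominant (A.left.fromSpecStalk (genericPoint A.left)) :=
        ⟨dense_iff_closure_eq.2 (Set.univ_subset_iff.1 ((genericPoint_closure A.left).ge.trans
          (closure_mono (by rw [Scheme.range_fromSpecStalk]; exact Set.singleton_subset_iff.2 specializes_rfl))))⟩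
      refine Over.OverMorphism.ext (ext_of_isDominant_of_isSeparated A.hom ((Over.w _).trans (Over.w _).symm)
        (A.left.fromSpecStalk (genericPoint A.left)) ?_)
      rw [← spec_ffMap, show AVDegLib.ffMap (trl (a : AVTorsLib.base k ⟶ A)) = RingHom.id E from hma, Over.id_left,
        Category.comp_id]
      exact ((congrArg (· ≫ _) (Spec.map_id _)).trans (Category.id_comp _))
    have := congrArg ((1 : AVTorsLib.base k ⟶ A) ≫ ·) hmor
    simp only [trl, MonObj.comp_mul, Category.comp_id, one_mul, ← Category.assoc] at this
    rw [toUnit_unique ((1 : AVTorsLib.base k ⟶ A) ≫ toUnit A) (toUnit _), toUnit_unique (toUnit (AVTorsLib.base k)) (𝟙 _),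
      Category.id_comp] at this
    rw [_root_.one_mul] at this; exact this
  exact ⟨σ, hσ⟩

/-- the kernel points of an etale isogeny are as many as its degree -/
theorem natCard_ker (φ : A ⟶ B) [IsMonHom φ] [IsFinite φ.left] [Etale φ.left] :
    Nat.card {P : AVTorsLib.base k ⟶ A // P ≫ φ = 1} =
      φ.left.finrank ((η[B]).left (IsLocalRing.closedPoint k)) := by
  haveI : IsFinite (pullback.snd φ.left (η[B]).left) := MorphismProperty.pullback_snd (P := @IsFinite) _ _ inferInstance
  haveI : Etale (pullback.snd φ.left (η[B]).left) := MorphismProperty.pullback_snd (P := @Etale) _ _ inferInstance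
  let N := pullback φ.left (η[B]).left
  let q : N ⟶ Spec (CommRingCat.of k) := pullback.snd φ.left (η[B]).left
  haveI : IsFinite q := inferInstanceAs (IsFinite (pullback.snd φ.left (η[B]).left))
  haveI : Etale q := inferInstanceAs (Etale (pullback.snd φ.left (η[B]).left))
  have h1 : (1 : AVTorsLib.base k ⟶ B).left = (η[B]).left := by
    change (toUnit (AVTorsLib.base k) ≫ η[B]).left = _
    rw [toUnit_unique (toUnit (AVTorsLib.base k)) (𝟙 _), Category.id_comp]
  have heta : (η[B]).left ≫ B.hom = 𝟙 _ := Over.w η[B]
  let e : {P : AVTorsLib.base k ⟶ A // P ≫ φ = 1} ≃ {p : Spec (CommRingCat.of k) ⟶ N // p ≫ q = 𝟙 _} :=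
    { toFun := fun P => ⟨pullback.lift P.1.left (𝟙 _) (by
          rw [← Over.comp_left, P.2, h1]; exact (Category.id_comp _).symm), pullback.lift_snd _ _ _⟩
      invFun := fun p => ⟨Over.homMk (p.1 ≫ pullback.fst φ.left (η[B]).left) (by
          show (p.1 ≫ pullback.fst φ.left (η[B]).left) ≫ A.hom = 𝟙 _
          rw [Category.assoc, ← Over.w φ, pullback.condition_assoc, heta]
          exact (congrArg _ (Category.comp_id _)).trans p.2), by
        refine Over.OverMorphism.ext ?_
        rw [Over.comp_left, h1]
        show (p.1 ≫ pullback.fst φ.left (η[B]).left) ≫ φ.left = _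
        rw [Category.assoc, pullback.condition, ← Category.assoc]
        exact (congrArg (· ≫ (η[B]).left) p.2).trans (Category.id_comp _)⟩
      left_inv := fun P => Subtype.ext (Over.OverMorphism.ext (pullback.lift_fst _ _ _))
      right_inv := fun p => Subtype.ext (pullback.hom_ext (by simp) (by rw [pullback.lift_snd]; exact p.2.symm)) }
  rw [Nat.card_congr (e.trans (AVTorsLib.sectionsEquiv q)), AVTorsLib.natCard_eq_finrank q]
  exact Scheme.Hom.finrank_pullback_snd φ.left (η[B]).left _

/-- a separable isogeny gives a Galois extension with group the kernel points -/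
theorem isGalois (φ : A ⟶ B) [IsMonHom φ] [IsFinite φ.left] [Surjective φ.left] [Etale φ.left]
    [IsIntegral A.left] [IsIntegral B.left] :
    letI := AVDegLib.ffExt φ
    IsGalois B.left.functionField A.left.functionField ∧
      Nat.card (A.left.functionField ≃ₐ[B.left.functionField] A.left.functionField) =
        Nat.card {P : AVTorsLib.base k ⟶ A // P ≫ φ = 1} := by
  letI := AVDegLib.ffExt φ
  haveI := AVDegLib.finiteDimensional_ff φ
  let G : Subgroup (AVTorsLib.base k ⟶ A) :=
    { carrier := {a | a ≫ φ = 1}
      one_mem' := by simp [MonObj.one_comp]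
      mul_mem' := fun {a b} ha hb => by
        show (a * b) ≫ φ = 1
        rw [MonObj.mul_comp, ha, hb, _root_.mul_one]
      inv_mem' := fun {a} ha => by
        show a⁻¹ ≫ φ = 1
        rw [GrpObj.inv_comp, ha, inv_one] }
  obtain ⟨σ, hσ⟩ := exists_deck φ G fun a ha => ha
  have hG : Nat.card G = Nat.card {P : AVTorsLib.base k ⟶ A // P ≫ φ = 1} := rfl
  have hd : φ.left.finrank ((η[B]).left (IsLocalRing.closedPoint k)) =
      Module.finrank B.left.functionField A.left.functionField := AVDegLib.finrank_eq φ _
  haveI : Finite (A.left.functionField ≃ₐ[B.left.functionField] A.left.functionField) := Finite.of_fintype _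
  have h1 := Nat.card_le_card_of_injective σ hσ
  have h2 : Nat.card (A.left.functionField ≃ₐ[B.left.functionField] A.left.functionField) ≤
      Module.finrank B.left.functionField A.left.functionField := by
    rw [Nat.card_eq_fintype_card]
    exact AlgEquiv.card_le
  rw [hG, natCard_ker φ, hd] at h1
  have h3 := le_antisymm h2 h1
  exact ⟨IsGalois.of_card_aut_eq_finrank _ _ h3, by rw [h3, ← hd, natCard_ker φ]⟩

end Groth.Agent.AVGalois

end
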